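import Cfsg.Agent.H604.SC.ConwayA
import Cfsg.Agent.H661.SC.NonPrin
import Cfsg.Agent.H663.ObCo2
import Cfsg.Agent.H843.IMC.LamCo2
import Cfsg.Agent.H843.IMC.Co2B

/-!
# `IMC 2 Co2` (helper604, S4526)

No nontrivial element of odd order centralizes a Sylow 2-subgroup of `Co2` : it would centralize the sign changes of the
words vanishing at the two points, hence act on the 24 axes with square 1.
-/

set_option autoImplicit false

namespace Cfsg.Agent.H604.SC

open Cfsg Cfsg.Spor Cfsg.Agent.H33 Cfsg.Agent.H625.SylConst Cfsg.Agent.H661.SC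
open Cfsg.Agent.H843.IMC.LamCo2
open Cfsg.Agent.SporadicA.GolayBase Cfsg.Agent.SporadicStructure.M24El
open Cfsg.Agent.SporadicA.Co0Mono Cfsg.Agent.SporadicStructure.Co0Base

universe u

theorem sep2 : ∀ a < 24, ∀ b < 24, ¬ (b = 23 ∨ b = 0 ∨ a = b) →
    masks.any (fun m => m.testBit a != m.testBit b) = true := by
  decide +kernel

theorem exists_word2 {a b : GolayPt} (hb : b ≠ none) (hb' : b ≠ some 0) (h : a ≠ b) :
    ∃ c : C2, ((c : golayCode) : GolayPt → ZMod 2) a ≠ ((c : golayCode) : GolayPt → ZMod 2) b := by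
  obtain ⟨m, hm, hne⟩ := List.any_eq_true.1 (sep2 _ (idx_lt a) _ (idx_lt b) (by
    rintro (h' | h' | h')
    · exact hb (idx_injective h')
    · exact hb' (idx_injective h')
    · exact h (idx_injective h')))
  obtain ⟨e, he⟩ := mem_of_mem_masks hm
  refine ⟨e.toAdd, ?_⟩
  have h1 : ∀ i, ((e.toAdd : golayCode) : GolayPt → ZMod 2) i = word m i := fun i => congrFun he i
  rw [h1, h1, word_apply, word_apply]
  revert hne
  cases m.testBit (idx a) <;> cases m.testBit (idx b) <;> simp

theorem sign_e8 (c : golayCode) (i : GolayPt) : signCo0 c • e8 i = sgn ((c : GolayPt → ZMod 2) i) • e8 i := by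
  apply Subtype.ext
  funext j
  rw [signCo0_smul, signMap_apply, e8_coe, AddSubgroup.coe_zsmul, e8_coe, Pi.smul_apply, smul_eq_mul, Pi.single_apply]
  split_ifs with h
  · rw [h]
  · rw [mul_zero, mul_zero]

theorem coord_eq {g : Co0} (hc : ∀ c : C2, signCo0 (c : golayCode) * g = g * signCo0 (c : golayCode)) (c : C2)
    (i j : GolayPt) : sgn (((c : golayCode) : GolayPt → ZMod 2) j) * ((g • e8 i : leechLattice) : GolayPt → ℤ) j =
      sgn (((c : golayCode) : GolayPt → ZMod 2) i) * ((g • e8 i : leechLattice) : GolayPt → ℤ) j := by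
  have h1 : signCo0 (c : golayCode) • g • e8 i = g • signCo0 (c : golayCode) • e8 i := by
    rw [← mul_smul, hc, mul_smul]
  rw [sign_e8, co0_smul_zsmul] at h1
  have h2 := congrArg (fun v : leechLattice => (v : GolayPt → ℤ) j) h1
  simp only [signCo0_smul, signMap_apply, AddSubgroup.coe_zsmul, Pi.smul_apply, smul_eq_mul] at h2
  exact h2

theorem coord_zero {g : Co0} (hc : ∀ c : C2, signCo0 (c : golayCode) * g = g * signCo0 (c : golayCode))
    {i j : GolayPt} (h : ∃ c : C2, ((c : golayCode) : GolayPt → ZMod 2) j ≠ ((c : golayCode) : GolayPt → ZMod 2) i) :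
    ((g • e8 i : leechLattice) : GolayPt → ℤ) j = 0 := by
  obtain ⟨c, hne⟩ := h
  have h1 := coord_eq hc c i j
  have h2 : ∀ a : ZMod 2, a = 0 ∨ a = 1 := by decide
  rcases h2 (((c : golayCode) : GolayPt → ZMod 2) j) with h3 | h3 <;>
    rcases h2 (((c : golayCode) : GolayPt → ZMod 2) i) with h4 | h4 <;> rw [h3, h4] at h1 hne
  · exact absurd rfl hne
  · rw [sgn_zero, sgn_one] at h1; omega
  · rw [sgn_zero, sgn_one] at h1; omega
  · exact absurd rfl hne

theorem norm_e8 (g : Co0) (i : GolayPt) : sqNorm ((g • e8 i : leechLattice) : GolayPt → ℤ) = 64 := by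
  rw [co0_sqNorm, e8_coe, sqNorm]
  simp [Pi.single_apply]

theorem generic {g : Co0} (hc : ∀ c : C2, signCo0 (c : golayCode) * g = g * signCo0 (c : golayCode))
    {i : GolayPt} (hi : i ≠ none) (hi' : i ≠ some 0) : g • e8 i = e8 i ∨ g • e8 i = -e8 i := by
  have h0 : ∀ j, j ≠ i → ((g • e8 i : leechLattice) : GolayPt → ℤ) j = 0 := fun j hj =>
    coord_zero hc (exists_word2 hi hi' hj)
  have h1 := norm_e8 g i
  rw [sqNorm, Finset.sum_eq_single i (fun j _ hj => by rw [h0 j hj]; rfl) (fun h => absurd (Finset.mem_univ _) h)] at h1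
  have h2 : (((g • e8 i : leechLattice) : GolayPt → ℤ) i - 8) * (((g • e8 i : leechLattice) : GolayPt → ℤ) i + 8) = 0 := by
    nlinarith
  rcases mul_eq_zero.1 h2 with h3 | h3
  · left
    apply Subtype.ext
    funext j
    rw [e8_coe, Pi.single_apply]
    split_ifs with h
    · rw [h]; omega
    · exact h0 j h
  · right
    apply Subtype.ext
    funext j
    rw [AddSubgroup.coe_neg, Pi.neg_apply, e8_coe, Pi.single_apply]
    split_ifs with h
    · rw [h]; omega
    · rw [h0 j h, neg_zero]

theorem special {g : Co0} (hc : ∀ c : C2, signCo0 (c : golayCode) * g = g * signCo0 (c : golayCode))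
    (hu : g • leechU = leechU) {i : GolayPt} (hi : i = none ∨ i = some 0) :
    g • e8 i = e8 none ∨ g • e8 i = e8 (some 0) := by
  have hci : ∀ c : C2, ((c : golayCode) : GolayPt → ZMod 2) i = 0 := by
    intro c
    rcases hi with rfl | rfl
    · exact c.2.1
    · exact c.2.2
  have h0 : ∀ j, j ≠ none ∧ j ≠ some 0 → ((g • e8 i : leechLattice) : GolayPt → ℤ) j = 0 := by
    rintro j ⟨hj, hj'⟩
    refine coord_zero hc ?_
    have hij : i ≠ j := by
      rcases hi with rfl | rfl
      · exact hj.symm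
      · exact hj'.symm
    obtain ⟨c, h⟩ := exists_word2 hj hj' hij
    exact ⟨c, h.symm⟩
  have hne : (none : GolayPt) ≠ some 0 := by simp
  have h1 := norm_e8 g i
  rw [sqNorm, Fintype.sum_eq_add none (some 0) hne (fun j hj => by rw [h0 j hj]; rfl)] at h1
  have h2 := co0_dotInt g (e8 i) leechU
  rw [hu, dotInt, dotInt, Fintype.sum_eq_add none (some 0) hne (fun j hj => by rw [h0 j hj, zero_mul])] at h2
  have h3 : ∑ j, ((e8 i : leechLattice) : GolayPt → ℤ) j * ((leechU : leechLattice) : GolayPt → ℤ) j = 32 := by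
    rw [Finset.sum_eq_single i (fun j _ hj => by rw [e8_coe, Pi.single_apply, if_neg hj, zero_mul])
      (fun h => absurd (Finset.mem_univ _) h), e8_coe, Pi.single_eq_same]
    show 8 * vecU i = 32
    unfold vecU
    rw [if_pos hi]
    norm_num
  rw [h3] at h2
  have h4 : ((leechU : leechLattice) : GolayPt → ℤ) none = 4 := by
    show vecU none = 4
    unfold vecU
    rw [if_pos (Or.inl rfl)]
  have h5 : ((leechU : leechLattice) : GolayPt → ℤ) (some 0) = 4 := by
    show vecU (some 0) = 4
    unfold vecU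
    rw [if_pos (Or.inr rfl)]
  rw [h4, h5] at h2
  have h6 : ((g • e8 i : leechLattice) : GolayPt → ℤ) none * ((g • e8 i : leechLattice) : GolayPt → ℤ) (some 0) = 0 := by
    nlinarith
  rcases mul_eq_zero.1 h6 with h7 | h7
  · right
    apply Subtype.ext
    funext j
    rw [e8_coe, Pi.single_apply]
    split_ifs with h
    · rw [h]; omega
    · by_cases h8 : j = none
      · rw [h8]; exact h7
      · exact h0 j ⟨h8, h⟩
  · left
    apply Subtype.ext
    funext j
    rw [e8_coe, Pi.single_apply]
    split_ifs with h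
    · rw [h]; omega
    · by_cases h8 : j = some 0
      · rw [h8]; exact h7
      · exact h0 j ⟨h, h8⟩

theorem e8_ne : e8 none ≠ e8 (some 0) := by
  intro h
  have h1 := congrArg (fun v : leechLattice => (v : GolayPt → ℤ) none) h
  simp only [e8_coe, Pi.single_apply] at h1
  simp at h1

theorem sq_eq_one {g : Co0} (hc : ∀ c : C2, signCo0 (c : golayCode) * g = g * signCo0 (c : golayCode))
    (hu : g • leechU = leechU) : g * g = 1 := by
  refine co0_ext_e8 fun i => ?_
  rw [mul_smul, one_smul]
  by_cases hi : i = none ∨ i = some 0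
  · have h1 := special hc hu (Or.inl rfl : (none : GolayPt) = none ∨ (none : GolayPt) = some 0)
    have h2 := special hc hu (Or.inr rfl : (some 0 : GolayPt) = none ∨ (some 0 : GolayPt) = some 0)
    have h3 : g • e8 none ≠ g • e8 (some 0) := fun h => e8_ne (co0_smul_inj g h)
    rcases h1 with h1 | h1 <;> rcases h2 with h2 | h2
    · exact absurd (h1.trans h2.symm) h3
    · rcases hi with rfl | rfl
      · rw [h1, h1]
      · rw [h2, h2]
    · rcases hi with rfl | rfl
      · rw [h1, h2]
      · rw [h2, h1]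
    · exact absurd (h1.trans h2.symm) h3
  · push Not at hi
    rcases generic hc hi.1 hi.2 with h | h
    · rw [h, h]
    · rw [h, co0_smul_neg, h, neg_neg]

/-- No nontrivial element of odd order centralizes a Sylow 2-subgroup of `Co2`. -/
theorem noCent_co2 : NoCent 2 Spor.Co2 := by
  have h2 : Fact (Nat.Prime 2) := ⟨Nat.prime_two⟩
  intro g hodd hle
  set E : Subgroup Spor.Co2 := sg.range with hE
  have hEp : IsPGroup 2 E := by
    rintro ⟨x, ⟨c, rfl⟩⟩
    refine ⟨1, ?_⟩
    apply Subtype.ext
    apply inc_injective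
    show inc (sg c ^ (2 ^ 1)) = 1
    rw [pow_one, pow_two, map_mul]
    exact signCo0_mul_self _
  obtain ⟨P, hP⟩ := hEp.exists_le_sylow
  obtain ⟨Q⟩ : Nonempty (Sylow 2 ↥(Subgroup.centralizer ({g} : Set Spor.Co2))) := inferInstance
  have hQ : Nat.card ((Q : Subgroup ↥(Subgroup.centralizer ({g} : Set Spor.Co2))).map (Subgroup.subtype _)) =
      2 ^ (Nat.card Spor.Co2).factorization 2 := by
    rw [Nat.card_congr ((Q : Subgroup ↥(Subgroup.centralizer ({g} : Set Spor.Co2))).equivMapOfInjective
      (Subgroup.subtype _) (Subgroup.subtype_injective _)).symm.toEquiv,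
      Q.card_eq_multiplicity]
    congr 1
    refine le_antisymm ?_ hle
    exact (Nat.factorization_le_iff_dvd Nat.card_pos.ne' Nat.card_pos.ne').2 (Subgroup.card_subgroup_dvd_card _) 2
  obtain ⟨x, hx⟩ := MulAction.exists_smul_eq Spor.Co2 P (Sylow.ofCard _ hQ)
  have hxE : ∀ e ∈ E, x * e * x⁻¹ ∈ Subgroup.centralizer ({g} : Set Spor.Co2) := by
    intro e he
    have h1 : x * e * x⁻¹ ∈ ((x • P : Sylow 2 Spor.Co2) : Subgroup Spor.Co2) := by
      rw [Sylow.coe_subgroup_smul]
      exact Subgroup.smul_mem_pointwise_smul e (MulAut.conj x) _ (hP he)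
    rw [hx] at h1
    obtain ⟨y, -, hy⟩ := h1
    rw [← hy]
    exact y.2
  set g' : Spor.Co2 := x⁻¹ * g * x with hg'
  have hcomm : ∀ e ∈ E, e * g' = g' * e := by
    intro e he
    have h1 := hxE e he
    rw [Subgroup.mem_centralizer_singleton_iff] at h1
    calc e * (x⁻¹ * g * x) = x⁻¹ * (x * e * x⁻¹ * g) * x := by group
      _ = x⁻¹ * (g * (x * e * x⁻¹)) * x := by rw [h1]
      _ = x⁻¹ * g * x * e := by group
  have h3 : inc g' * inc g' = 1 := by
    refine sq_eq_one (fun c => ?_) g'.2.2
    have h4 := congrArg inc (hcomm (sg (Multiplicative.ofAdd c)) ⟨_, rfl⟩)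
    rw [map_mul, map_mul] at h4
    exact h4
  have h4 : g' ^ 2 = 1 := by
    apply inc_injective
    rw [pow_two, map_mul, map_one]
    exact h3
  have h5 : g ^ 2 = 1 := by
    have h6 : g = x * g' * x⁻¹ := by rw [hg']; group
    rw [h6, conj_pow, h4, mul_one, mul_inv_cancel]
  have h6 : orderOf g ∣ 2 := orderOf_dvd_of_pow_eq_one h5
  rcases (Nat.dvd_prime Nat.prime_two).1 h6 with h7 | h7
  · exact orderOf_eq_one_iff.1 h7
  · exact absurd (dvd_of_eq h7.symm) hodd

theorem noCent_equiv {G H : Type*} [Group G] [Group H] {p : ℕ} (e : G ≃* H) (h : NoCent p H) : NoCent p G := by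
  intro g hg hle
  have h1 : e g = 1 := by
    refine h (e g) (by rwa [MulEquiv.orderOf_eq]) ?_
    have h2 : Nat.card (Subgroup.centralizer ({e g} : Set H)) = Nat.card (Subgroup.centralizer ({g} : Set G)) := by
      have h3 : Subgroup.centralizer ({e g} : Set H) = (Subgroup.centralizer ({g} : Set G)).map e.toMonoidHom := by
        ext y
        rw [Subgroup.mem_centralizer_singleton_iff, Subgroup.mem_map]
        constructor
        · intro hy
          refine ⟨e.symm y, ?_, e.apply_symm_apply y⟩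
          rw [Subgroup.mem_centralizer_singleton_iff]
          apply e.injective
          rw [map_mul, map_mul, e.apply_symm_apply]
          exact hy
        · rintro ⟨x, hx, rfl⟩
          rw [Subgroup.mem_centralizer_singleton_iff] at hx
          have h4 := congrArg e hx
          rw [map_mul, map_mul] at h4
          exact h4
      rw [h3, Nat.card_congr ((Subgroup.centralizer ({g} : Set G)).equivMapOfInjective _ e.injective).symm.toEquiv]
    rw [h2, ← Nat.card_congr e.toEquiv]
    exact hle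
  exact e.injective (by rw [h1, map_one])

theorem co2_two {S : Type u} [Group S] [Finite S] (h : Cfsg.Spor.IsoCo2 S) : IMC 2 S := by
  have h2 : Fact (Nat.Prime 2) := ⟨Nat.prime_two⟩
  obtain ⟨e⟩ := id h
  exact imc_of_NB2 (Cfsg.Agent.H663.ObCo2.nb_co2 h) (noCent_equiv e noCent_co2)

end Cfsg.Agent.H604.SC
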