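import Cfsg.Agent.H604.SC.CoTwoB
import Cfsg.Agent.H94.IMCPerm

/-!
# `IMC` for `Co2` (helper604, S4526)

* `p = 2` : `co2_two`; `p = 3` : the character of degree `2277` is a constituent of the permutation character on 4600
  vectors (the proof of `H843.IMC.Co2B.hasDeg_2277`); `p = 5` : `275`; `p ≥ 7` : exact.
-/

set_option autoImplicit false

namespace Cfsg.Agent.H604.SC.CoTwo

open Cfsg Cfsg.Agent.H33 Cfsg.Agent.H672.SporIM Cfsg.Agent.H690.Spor.RankThree MulAction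
open Cfsg.Agent.SporadicStructure.Co2RankThree Cfsg.Agent.Characters.Core Cfsg.Agent.H843.IMC.Co2B
open Cfsg.Agent.H843.IMC
open Cfsg.Agent.H713.Spor.RankThree (pc inner_pc_one inner_pc_self pc_one inner_ne)

theorem exists_2277 : ∃ χ : IrrCharacter Spor.Co2, charDegree (χ : Spor.Co2 → ℂ) = 2277 ∧
    ∀ [Fintype Spor.Co2], classInner (pc Spor.Co2 X) (χ : Spor.Co2 → ℂ) ≠ 0 := by
  classical
  have this0 := Fintype.ofFinite Spor.Co2
  have := Fintype.ofFinite Y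
  have hne : Nonempty X := ⟨⟨y1, y1_mem_A⟩⟩
  have hne' : Nonempty Y := ⟨mk ⟨y1, y1_mem_A⟩⟩
  obtain ⟨χ₁, χ₂, h1, h2, h3⟩ := Co2A.of_R3 Co2A.card_co2 r3
  obtain ⟨μ, hμ⟩ := Co2A.exists_mu
  have hμ23 : charDegree (μ : Spor.Co2 → ℂ) = 23 := by
    obtain ⟨μ', h'⟩ := Co2A.hasDeg_23
    have h4 := hμ 1
    have h6 : Cfsg.Agent.H419.LeechIrr.lchi Cfsg.Agent.H419.Spor.Co2.inc 1 = 24 := by
      rw [Cfsg.Agent.H419.LeechIrr.lchi, map_one, Cfsg.Agent.SigZeroCo2.Lin.tr8_one]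
      norm_num
    rw [h6, Cfsg.Agent.Blocks.Basic.irr_one_eq_charDegree μ.2] at h4
    have : (24 : ℂ) = ((1 + charDegree (μ : Spor.Co2 → ℂ) : ℕ) : ℂ) := by rw [h4]; push_cast; ring
    have h9 : 24 = 1 + charDegree (μ : Spor.Co2 → ℂ) := by exact_mod_cast this
    omega
  have ne_of_deg : ∀ {α β : IrrCharacter Spor.Co2}, charDegree (α : Spor.Co2 → ℂ) ≠ charDegree (β : Spor.Co2 → ℂ) →
      (α : Spor.Co2 → ℂ) ≠ β := by
    intro α β h hcon
    exact h (by rw [hcon])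
  have hone : charDegree (1 : Spor.Co2 → ℂ) = 1 := by
    unfold charDegree
    simp
  have hμ1 : (μ : Spor.Co2 → ℂ) ≠ 1 := by
    intro h
    rw [h, hone] at hμ23
    omega
  have hχ1 : (χ₁ : Spor.Co2 → ℂ) ≠ 1 := by
    intro h
    rw [h, hone] at h1
    omega
  have hχ2 : (χ₂ : Spor.Co2 → ℂ) ≠ 1 := by
    intro h
    rw [h, hone] at h2
    omega
  have h12 : (χ₁ : Spor.Co2 → ℂ) ≠ χ₂ := ne_of_deg (by rw [h1, h2]; norm_num)
  have h1μ : (χ₁ : Spor.Co2 → ℂ) ≠ μ := ne_of_deg (by rw [h1, hμ23]; norm_num)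
  have h2μ : (χ₂ : Spor.Co2 → ℂ) ≠ μ := ne_of_deg (by rw [h2, hμ23]; norm_num)
  -- the permutation character of the pairs
  have hY : pc Spor.Co2 Y = 1 + (χ₁ : Spor.Co2 → ℂ) + (χ₂ : Spor.Co2 → ℂ) := by
    funext g
    exact h3 g
  have hYY : classInner (pc Spor.Co2 Y) (pc Spor.Co2 Y) = 3 := by
    rw [hY]
    simp only [classInner_add_left, classInner_add_right]
    rw [classInner_irr_self isIrr_one, classInner_irr_self χ₁.2, classInner_irr_self χ₂.2,
      classInner_irr_ne isIrr_one χ₁.2 hχ1.symm, classInner_irr_ne isIrr_one χ₂.2 hχ2.symm,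
      classInner_irr_ne χ₁.2 isIrr_one hχ1, classInner_irr_ne χ₂.2 isIrr_one hχ2,
      classInner_irr_ne χ₁.2 χ₂.2 h12, classInner_irr_ne χ₂.2 χ₁.2 h12.symm]
    norm_num
  have hYμ : classInner (pc Spor.Co2 Y) (μ : Spor.Co2 → ℂ) = 0 := by
    rw [hY]
    simp only [classInner_add_left]
    rw [classInner_irr_ne isIrr_one μ.2 hμ1.symm, classInner_irr_ne χ₁.2 μ.2 h1μ, classInner_irr_ne χ₂.2 μ.2 h2μ]
    norm_num
  have hμY : classInner (μ : Spor.Co2 → ℂ) (pc Spor.Co2 Y) = 0 := by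
    rw [← classInner_conj_symm, hYμ, map_zero]
  -- the numbers of orbits
  obtain ⟨N1, hN1⟩ : ∃ n : ℕ, n = Nat.card (Quotient (orbitRel Spor.Co2 (X × X))) := ⟨_, rfl⟩
  obtain ⟨N2, hN2⟩ : ∃ n : ℕ, n = Nat.card (Quotient (orbitRel Spor.Co2 (X × Y))) := ⟨_, rfl⟩
  have hN1' : N1 ≤ 5 := by rw [hN1]; exact rank_le
  have hN3 : Nat.card (Quotient (orbitRel Spor.Co2 (Y × Y))) = 3 := by
    have h4 := inner_pc_self (G := Spor.Co2) Y
    rw [hYY] at h4
    exact_mod_cast h4.symm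
  have hN2' : 3 ≤ N2 := by rw [hN2, ← hN3]; exact rank_mono
  have hXX : classInner (pc Spor.Co2 X) (pc Spor.Co2 X) = N1 := by rw [hN1]; exact inner_pc_self X
  have hXY : classInner (pc Spor.Co2 X) (pc Spor.Co2 Y) = N2 := by rw [hN2]; exact inner_pc_pc X Y
  have hYX : classInner (pc Spor.Co2 Y) (pc Spor.Co2 X) = N2 := by
    rw [← classInner_conj_symm, hXY, Complex.conj_natCast]
  -- the character of degree 23
  have hXμ : classInner (pc Spor.Co2 X) (μ : Spor.Co2 → ℂ) ≠ 0 := by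
    refine inner_ne Cfsg.Agent.H419.Spor.Co2.inc μ hμ1 (d := 1) (fun g => by rw [hμ g]; norm_num) X
      (fun x => Cfsg.Agent.H419.Spor.Co2.c • x.1) ?_ ?_
    · intro γ x
      show Cfsg.Agent.H419.Spor.Co2.c • (toCo0 γ • x.1) =
        (Cfsg.Agent.H419.Spor.Co2.c * toCo0 γ * Cfsg.Agent.H419.Spor.Co2.c⁻¹) • Cfsg.Agent.H419.Spor.Co2.c • x.1
      rw [mul_smul, mul_smul, inv_smul_smul]
    · intro x
      obtain ⟨γ, hγ⟩ := exists_smul x (op x)
      refine ⟨γ, fun hcon => op_ne x ?_⟩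
      rw [← hγ]
      apply Subtype.ext
      have h4 : Cfsg.Agent.H419.Spor.Co2.inc γ • Cfsg.Agent.H419.Spor.Co2.c • x.1 =
          Cfsg.Agent.H419.Spor.Co2.c • (toCo0 γ • x.1) := by
        show (Cfsg.Agent.H419.Spor.Co2.c * toCo0 γ * Cfsg.Agent.H419.Spor.Co2.c⁻¹) • Cfsg.Agent.H419.Spor.Co2.c • x.1 = _
        rw [mul_smul, mul_smul, inv_smul_smul]
      rw [h4] at hcon
      exact MulAction.injective Cfsg.Agent.H419.Spor.Co2.c hcon
  obtain ⟨m, hm⟩ := classInner_isNat (Cfsg.Agent.S0157.isCharacter_fixedBy (G := Spor.Co2) X) (isIrr_isCharacter μ.2)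
  change classInner (pc Spor.Co2 X) μ = m at hm
  have hm0 : m ≠ 0 := by
    rintro rfl
    exact hXμ (by rw [hm]; norm_num)
  have hm' : classInner (μ : Spor.Co2 → ℂ) (pc Spor.Co2 X) = m := by
    rw [← classInner_conj_symm, hm, Complex.conj_natCast]
  -- the difference
  set ψ : Spor.Co2 → ℂ := pc Spor.Co2 X - (pc Spor.Co2 Y + (μ : Spor.Co2 → ℂ)) with hψ
  have hgen : IsGeneralizedCharacter Spor.Co2 ψ := by
    rw [isGeneralizedCharacter_def]
    exact ⟨_, _, Cfsg.Agent.S0157.isCharacter_fixedBy X,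
      isCharacter_add (Cfsg.Agent.S0157.isCharacter_fixedBy Y) (isIrr_isCharacter μ.2), rfl⟩
  have hval : ψ 1 = 2277 := by
    rw [hψ, Pi.sub_apply, Pi.add_apply, pc_one, pc_one, card_X, card_Y,
      Cfsg.Agent.Blocks.Basic.irr_one_eq_charDegree μ.2, hμ23]
    norm_num
  have hnorm : classInner ψ ψ = (((N1 : ℤ) - 2 * N2 + 4 - 2 * m : ℤ) : ℂ) := by
    rw [hψ]
    simp only [classInner_sub_left, classInner_sub_right, classInner_add_left, classInner_add_right]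
    rw [hXX, hXY, hYX, hYY, hm, hm', hYμ, hμY, classInner_irr_self μ.2]
    push_cast
    ring
  have hpos : ψ ≠ 0 := by
    intro h
    rw [h, Pi.zero_apply] at hval
    norm_num at hval
  have hnonneg : 0 < (N1 : ℤ) - 2 * N2 + 4 - 2 * m := by
    have h4 := classInner_self_eq_ofReal ψ
    rw [hnorm] at h4
    have h5 : (((N1 : ℤ) - 2 * N2 + 4 - 2 * m : ℤ) : ℝ) =
        (Nat.card Spor.Co2 : ℝ)⁻¹ * ∑ g : Spor.Co2, Complex.normSq (ψ g) := by exact_mod_cast h4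
    have h6 : (0 : ℝ) ≤ (((N1 : ℤ) - 2 * N2 + 4 - 2 * m : ℤ) : ℝ) := by
      rw [h5]
      exact mul_nonneg (by positivity) (Finset.sum_nonneg fun _ _ => Complex.normSq_nonneg _)
    have h7 : (0 : ℤ) ≤ (N1 : ℤ) - 2 * N2 + 4 - 2 * m := by exact_mod_cast h6
    refine lt_of_le_of_ne h7 fun h8 => hpos ?_
    apply classInner_self_eq_zero
    rw [hnorm, ← h8]
    norm_num
  have hone' : (N1 : ℤ) - 2 * N2 + 4 - 2 * m = 1 := by omega
  rw [hone'] at hnorm
  have hXψ : classInner (pc Spor.Co2 X) ψ = (((N1 : ℤ) - N2 - m : ℤ) : ℂ) := by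
    rw [hψ]
    simp only [classInner_sub_right, classInner_add_right]
    rw [hXX, hXY, hm]
    push_cast
    ring
  have hXψ' : (N1 : ℤ) - N2 - m = 1 := by omega
  rw [hXψ'] at hXψ
  rcases isIrr_of_generalized hgen (by rw [hnorm]; norm_num) with h | h
  · refine ⟨⟨ψ, h⟩, Cfsg.Agent.H670.PSing.charDegree_eq_of (by show ψ 1 = _; rw [hval]; norm_num), ?_⟩
    intro inst
    have e : inst = this0 := Subsingleton.elim _ _
    subst e
    show classInner (pc Spor.Co2 X) ψ ≠ 0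
    rw [hXψ]
    norm_num
  · exfalso
    obtain ⟨n, hn, hn'⟩ := isIrr_apply_one h
    rw [Pi.neg_apply, hval] at hn'
    have h4 : ((n : ℤ) : ℂ) + ((2277 : ℤ) : ℂ) = 0 := by
      push_cast
      rw [← hn']
      ring
    have h5 : (n : ℤ) + 2277 = 0 := by exact_mod_cast h4
    omega

end Cfsg.Agent.H604.SC.CoTwo

namespace Cfsg.Agent.H604.SC

open Cfsg Cfsg.Agent.H33 Cfsg.Agent.Characters.Core Cfsg.Agent.H625.SylConst Cfsg.Agent.H661.SC MulAction

universe u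

theorem co2_three : IMC 3 Spor.Co2 := by
  have hp : Fact (Nat.Prime 3) := ⟨Nat.prime_three⟩
  have := Fintype.ofFinite Spor.Co2
  obtain ⟨χ, h1, h2⟩ := CoTwo.exists_2277
  exact Cfsg.Agent.H94.IMCPerm.imc_of_perm (X := H843.IMC.Co2B.X) (by rw [H843.IMC.Co2B.card_X]; norm_num) χ
    (by rw [h1]; norm_num) h2

theorem imc_co2 {S : Type u} [Group S] [Finite S] (h : Cfsg.Spor.IsoCo2 S) {p : ℕ} [hp : Fact p.Prime]
    (hd : p ∣ Nat.card S) : IMC p S := by
  obtain ⟨e⟩ := id h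
  have hcard : Nat.card Spor.Co2 = 42305421312000 := H843.IMC.Co2A.card_co2
  have hS : Nat.card S = 42305421312000 := by rw [Nat.card_congr e.toEquiv, hcard]
  have hfin : Finite Spor.Co2 := Finite.of_equiv _ e.toEquiv
  have hpr := hp.out
  have h5 : p ∣ 2 ^ 18 * 3 ^ 6 * 5 ^ 3 * 7 ^ 1 * 11 ^ 1 * 23 ^ 1 := by
    rw [hS] at hd
    norm_num
    exact hd
  have hIM := H843.IMC.Rows.im_co2 h hd
  rcases hpr.dvd_mul.1 h5 with h5 | h5
  · rcases hpr.dvd_mul.1 h5 with h5 | h5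
    · rcases hpr.dvd_mul.1 h5 with h5 | h5
      · rcases hpr.dvd_mul.1 h5 with h5 | h5
        · rcases hpr.dvd_mul.1 h5 with h5 | h5
          · obtain rfl := eq_of_dvd_pow hpr (by norm_num) h5
            exact co2_two h
          · obtain rfl := eq_of_dvd_pow hpr (by norm_num) h5
            exact IMC.of_equiv e co2_three
        · obtain rfl := eq_of_dvd_pow hpr (by norm_num) h5
          exact IMC.of_equiv e (imc_of_hasDeg (k := 2) (m := 338443370496) H843.IMC.Co2A.hasDeg_2024_275.2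
            (by rw [hcard]; norm_num) (by norm_num) (by norm_num) (by norm_num))
      · obtain rfl := eq_of_dvd_pow hpr (by norm_num) h5
        exact imc_of_IM (by rw [hS]; norm_num) hIM
    · obtain rfl := eq_of_dvd_pow hpr (by norm_num) h5
      exact imc_of_IM (by rw [hS]; norm_num) hIM
  · obtain rfl := eq_of_dvd_pow hpr (by norm_num) h5
    exact imc_of_IM (by rw [hS]; norm_num) hIM

end Cfsg.Agent.H604.SC
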