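import Cfsg.Agent.H661.SC.Base
import Cfsg.Agent.H661.SC.Fix
import Cfsg.Agent.H843.IMC.RowsA
import Cfsg.Agent.H843.IMC.RowsB
import Cfsg.Agent.H287.Blk.CoThree
import Cfsg.Agent.H686.Four.Co1

/-!
# `IMC` for the Conway groups `Co1` and `Co3` (helper604, S4526)

* `Co1` : `p = 2` : `loc_Co1`; `p = 3` : the exterior square 276; `p = 5` : `17250 = 2 * 3 * 5 ^ 3 * 23` (Brauer-Feit);
  `p ≥ 7` : `p ^ 3 ∤ |Co1|`.
* `Co3` : `p = 2` : `loc_Co3`; `p = 3` : a block of defect 1 (the centralizer `3 x L2(8):3`); `p = 5` : `275`; `p ≥ 7`.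
-/

set_option autoImplicit false

namespace Cfsg.Agent.H604.SC

open Cfsg Cfsg.Agent.H33 Cfsg.Agent.Characters.Core Cfsg.Agent.H625.SylConst Cfsg.Agent.H661.SC MulAction
open scoped ComplexConjugate

universe u

/-! ### Tools -/

/-- `p`-parts of orders. -/
theorem factorization_eq {n p k m : ℕ} (hp : p.Prime) (h : n = p ^ k * m) (hm : ¬ p ∣ m) : n.factorization p = k := by
  have hm0 : m ≠ 0 := by rintro rfl; exact hm (dvd_zero p)
  rw [h, Nat.factorization_mul (pow_ne_zero _ hp.ne_zero) hm0, Finsupp.add_apply, hp.factorization_pow,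
    Finsupp.single_eq_same, Nat.factorization_eq_zero_of_not_dvd hm, add_zero]

/-- Brauer-Feit from degrees. -/
theorem imc_of_hasDeg {G : Type u} [Group G] [Finite G] {p : ℕ} [hp : Fact p.Prime] {d k m : ℕ}
    (h : H672.SporIM.HasDeg G d) (hG : Nat.card G = p ^ (k + 1) * m) (hm : ¬ p ∣ m) (hpd : p ∣ d) (hd : p ^ k ∣ d) :
    IMC p G := by
  obtain ⟨χ, hχ⟩ := h
  refine imc_of_pow χ (by rw [hχ]; exact hpd) ?_
  rw [factorization_eq hp.out hG hm, Nat.add_sub_cancel, hχ]
  exact hd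

/-- A group of odd order, an integer-valued function: `∑ (n z ^ 2 - n (z * z)) ≠ 0`. -/
theorem sum_alt_pos {P : Type*} [Group P] [Fintype P] (hodd : Odd (Nat.card P)) (n : P → ℤ) (h1 : 2 ≤ n 1) :
    0 < ∑ z : P, (n z ^ 2 - n (z * z)) := by
  have hcop : (Nat.card P).Coprime 2 := Nat.coprime_two_right.2 hodd
  have h2 : ∑ z : P, n (z * z) = ∑ z : P, n z := by
    rw [← Equiv.sum_comp (powCoprime hcop) n]
    refine Finset.sum_congr rfl fun z _ => ?_
    rw [powCoprime_apply, pow_two]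
  rw [Finset.sum_sub_distrib, h2, ← Finset.sum_sub_distrib]
  have h3 : ∀ z : P, 0 ≤ n z ^ 2 - n z := by
    intro z
    rcases le_or_gt (n z) 0 with h | h
    · nlinarith
    · nlinarith
  have h4 : n 1 ^ 2 - n 1 ≤ ∑ z : P, (n z ^ 2 - n z) :=
    Finset.single_le_sum (f := fun z : P => n z ^ 2 - n z) (fun z _ => h3 z) (Finset.mem_univ 1)
  nlinarith

/-- The prime divisors. -/
theorem eq_of_dvd_pow {p q k : ℕ} (hp : p.Prime) (hq : q.Prime) (h : p ∣ q ^ k) : p = q :=
  (Nat.prime_dvd_prime_iff_eq hp hq).1 (hp.dvd_of_dvd_pow h)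

/-! ### Co1 -/

open Cfsg.Agent.H419.LeechIrr Cfsg.Agent.H419.Spor.Co1 Cfsg.Agent.CoOneType.CoOneE

theorem exists_int_chi (g : Co0) : ∃ n : ℤ, chi g = n :=
  Characters.GaloisBasic.exists_int_of_isIntegral
    (Characters.GaloisBasic.isIntegral_apply (isCharacter_lchi (MonoidHom.id Co0)) g)
    ⟨(Cfsg.Agent.Co2Type.Mono.tr8 g : ℚ) / 8, by
      show (Cfsg.Agent.Co2Type.Mono.tr8 g : ℂ) / 8 = _
      push_cast
      rfl⟩

instance finite_Co0 : Finite Co0 := Cfsg.Agent.CoOneType.FrameFix.finite_co0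

theorem co1_three : IMC 3 Spor.Co1 := by
  have hp : Fact (Nat.Prime 3) := ⟨Nat.prime_three⟩
  obtain ⟨θ, hθ, hd⟩ := H843.IMC.Co1B.exists_276
  obtain ⟨Q⟩ : Nonempty (Sylow 3 Co0) := inferInstance
  have := Fintype.ofFinite (Q : Subgroup Co0)
  refine ⟨θ, Q.mapSurjective (f := pr) pr_surjective, by rw [hd]; norm_num, ?_⟩
  refine fix_of_comp pr (Q : Subgroup Co0) ?_
  rw [fix_iff]
  choose n hn using exists_int_chi
  have h1 : ∀ z : (Q : Subgroup Co0), ((θ : Spor.Co1 → ℂ) ∘ pr) (z : Co0) =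
      (1 / 2 : ℂ) * ((n z ^ 2 - n ((z * z : (Q : Subgroup Co0)) : Co0) : ℤ) : ℂ) := by
    intro z
    rw [Function.comp_apply, hθ, psi, hn, hn]
    push_cast
    ring
  rw [Finset.sum_congr rfl fun z _ => h1 z, ← Finset.mul_sum, ← Int.cast_sum]
  refine mul_ne_zero (by norm_num) ?_
  have hodd : Odd (Nat.card (Q : Subgroup Co0)) := by
    obtain ⟨k, hk⟩ := IsPGroup.iff_card.1 Q.isPGroup'
    rw [hk]
    exact Odd.pow (by decide)
  have h2 := sum_alt_pos hodd (fun z => n (z : Co0)) (by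
    have h3 := hn 1
    rw [chi_one] at h3
    have h4 : (24 : ℤ) = n 1 := by exact_mod_cast h3
    show 2 ≤ n ((1 : (Q : Subgroup Co0)) : Co0)
    rw [Subgroup.coe_one, ← h4]
    norm_num)
  exact_mod_cast h2.ne'

theorem imc_co1 {S : Type u} [Group S] [Finite S] (h : Cfsg.Spor.IsoCo1 S) {p : ℕ} [hp : Fact p.Prime]
    (hd : p ∣ Nat.card S) : IMC p S := by
  obtain ⟨e⟩ := id h
  have hcard : Nat.card Spor.Co1 = 4157776806543360000 := Cfsg.Agent.S0399.result.2
  have hS : Nat.card S = 4157776806543360000 := by rw [Nat.card_congr e.toEquiv, hcard]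
  have hfin : Finite Spor.Co1 := Finite.of_equiv _ e.toEquiv
  have hpr := hp.out
  have h5 : p ∣ 2 ^ 21 * 3 ^ 9 * 5 ^ 4 * 7 ^ 2 * 11 ^ 1 * 13 ^ 1 * 23 ^ 1 := by
    rw [hS] at hd
    norm_num
    exact hd
  have hIM := H843.IMC.Rows.im_co1 h hd
  rcases hpr.dvd_mul.1 h5 with h5 | h5
  · rcases hpr.dvd_mul.1 h5 with h5 | h5
    · rcases hpr.dvd_mul.1 h5 with h5 | h5
      · rcases hpr.dvd_mul.1 h5 with h5 | h5
        · rcases hpr.dvd_mul.1 h5 with h5 | h5
          · rcases hpr.dvd_mul.1 h5 with h5 | h5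
            · obtain rfl := eq_of_dvd_pow hpr (by norm_num) h5
              exact imc_of_loc (H686.Four.CoOne.loc_Co1 h)
            · obtain rfl := eq_of_dvd_pow hpr (by norm_num) h5
              exact IMC.of_equiv e co1_three
          · obtain rfl := eq_of_dvd_pow hpr (by norm_num) h5
            exact IMC.of_equiv e (imc_of_hasDeg (k := 3) (m := 6652442890469376) H843.IMC.Co1D.hasDeg.1
              (by rw [hcard]; norm_num) (by norm_num) (by norm_num) (by norm_num))
        · obtain rfl := eq_of_dvd_pow hpr (by norm_num) h5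
          exact imc_of_IM (by rw [hS]; norm_num) hIM
      · obtain rfl := eq_of_dvd_pow hpr (by norm_num) h5
        exact imc_of_IM (by rw [hS]; norm_num) hIM
    · obtain rfl := eq_of_dvd_pow hpr (by norm_num) h5
      exact imc_of_IM (by rw [hS]; norm_num) hIM
  · obtain rfl := eq_of_dvd_pow hpr (by norm_num) h5
    exact imc_of_IM (by rw [hS]; norm_num) hIM

/-! ### Co3 -/

open H843.IMC.Co3B in
theorem co3_three_Gw : IMC 3 Gw := by
  have hp : Fact (Nat.Prime 3) := ⟨Nat.prime_three⟩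
  obtain ⟨θ, hθ⟩ := hasDeg_27
  have hcard : Nat.card ↥(Subgroup.zpowers x) = 3 := by rw [Nat.card_zpowers, orderOf_x]
  have hle : Subgroup.zpowers x ≤ KK := by
    rw [KK_eq, Subgroup.zpowers_le, Subgroup.mem_centralizer_singleton_iff]
  refine imc_of_local (Subgroup.zpowers x) (IsPGroup.of_card (n := 1) (by rw [hcard, pow_one])) ?_ θ ?_ ?_
  · have h1 := Subgroup.card_mul_index (Subgroup.zpowers x)
    rw [hcard, card_Gw] at h1
    omega
  · have h1 : (Nat.card ↥KK).factorization 3 ≤ 4 := by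
      by_contra hcon
      exact not_dvd_KK ((Nat.prime_three.pow_dvd_iff_le_factorization Nat.card_pos.ne').2 (by omega))
    have h2 : (charDegree (θ : ↥KK → ℂ)).factorization 3 = 3 := by
      rw [hθ, show (27 : ℕ) = 3 ^ 3 by norm_num, Nat.prime_three.factorization_pow]
      simp
    have h3 : Subgroup.zpowers x ⊓ KK = Subgroup.zpowers x := inf_eq_left.2 hle
    rw [h3, hcard, Nat.prime_three.factorization_self, h2]
    exact h1
  · rintro g hg ⟨k, hk⟩
    refine (le_sup_right : KK ≤ _) ?_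
    rw [KK_eq, Subgroup.mem_centralizer_singleton_iff]
    have h1 : g * x * g⁻¹ ∈ Subgroup.zpowers x :=
      (Subgroup.mem_normalizer_iff.1 hg x).1 (Subgroup.mem_zpowers x)
    have hx3 : x ^ 3 = 1 := by rw [← orderOf_x, pow_orderOf_eq_one]
    have h2 : g * x * g⁻¹ = x ∨ g * x * g⁻¹ = x⁻¹ := by
      classical
      rw [mem_zpowers_iff_mem_range_orderOf, orderOf_x] at h1
      obtain ⟨n, hn, h1⟩ := Finset.mem_image.1 h1
      rw [Finset.mem_range] at hn
      interval_cases n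
      · exfalso
        have h3 : x = 1 := by
          have h4 : g * x * g⁻¹ = 1 := by rw [← h1, pow_zero]
          have h5 : x = g⁻¹ * (g * x * g⁻¹) * g := by group
          rw [h5, h4]
          group
        have h4 := orderOf_x
        rw [h3, orderOf_one] at h4
        norm_num at h4
      · left
        rw [← h1, pow_one]
      · right
        rw [← h1, eq_inv_iff_mul_eq_one, ← pow_succ, hx3]
    rcases h2 with h2 | h2
    · calc g * x = g * x * g⁻¹ * g := by group
        _ = x * g := by rw [h2]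
    · have h3 : g ^ 2 * x = x * g ^ 2 := by
        have h4 : g * x⁻¹ * g⁻¹ = x := by
          calc g * x⁻¹ * g⁻¹ = (g * x * g⁻¹)⁻¹ := by group
            _ = x := by rw [h2, inv_inv]
        have h5 : g ^ 2 * x * (g ^ 2)⁻¹ = x := by
          calc g ^ 2 * x * (g ^ 2)⁻¹ = g * (g * x * g⁻¹) * g⁻¹ := by rw [pow_two]; group
            _ = x := by rw [h2, h4]
        calc g ^ 2 * x = g ^ 2 * x * (g ^ 2)⁻¹ * g ^ 2 := by group
          _ = x * g ^ 2 := by rw [h5]
      have hodd : Odd (3 ^ k) := Odd.pow (by decide)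
      obtain ⟨m, hm⟩ := hodd
      have h4 : g = (g ^ 2) ^ (m + 1) := by
        rw [← pow_mul, show 2 * (m + 1) = (2 * m + 1) + 1 by ring, ← hm, pow_succ, ← hk, pow_orderOf_eq_one, one_mul]
      have h5 : Commute ((g ^ 2) ^ (m + 1)) x := Commute.pow_left h3 _
      rw [← h4] at h5
      exact h5

theorem imc_co3 {S : Type u} [Group S] [Finite S] (h : Cfsg.Spor.IsoCo3 S) {p : ℕ} [hp : Fact p.Prime]
    (hd : p ∣ Nat.card S) : IMC p S := by
  obtain ⟨e⟩ := id h
  have hcard : Nat.card Spor.Co3 = 495766656000 := H843.IMC.Co3A.card_co3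
  have hS : Nat.card S = 495766656000 := by rw [Nat.card_congr e.toEquiv, hcard]
  have hfin : Finite Spor.Co3 := Finite.of_equiv _ e.toEquiv
  have hpr := hp.out
  have h5 : p ∣ 2 ^ 10 * 3 ^ 7 * 5 ^ 3 * 7 ^ 1 * 11 ^ 1 * 23 ^ 1 := by
    rw [hS] at hd
    norm_num
    exact hd
  have hIM := H843.IMC.Rows.im_co3 h hd
  rcases hpr.dvd_mul.1 h5 with h5 | h5
  · rcases hpr.dvd_mul.1 h5 with h5 | h5
    · rcases hpr.dvd_mul.1 h5 with h5 | h5
      · rcases hpr.dvd_mul.1 h5 with h5 | h5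
        · rcases hpr.dvd_mul.1 h5 with h5 | h5
          · obtain rfl := eq_of_dvd_pow hpr (by norm_num) h5
            exact imc_of_loc (H287.Blk.loc_Co3 h)
          · obtain rfl := eq_of_dvd_pow hpr (by norm_num) h5
            obtain ⟨f⟩ := H843.IMC.Co3B.nonempty_equiv
            exact IMC.of_equiv (e.trans f) co3_three_Gw
        · obtain rfl := eq_of_dvd_pow hpr (by norm_num) h5
          exact IMC.of_equiv e (imc_of_hasDeg (k := 2) (m := 3966133248) H843.IMC.Co3A.hasDeg_275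
            (by rw [hcard]; norm_num) (by norm_num) (by norm_num) (by norm_num))
      · obtain rfl := eq_of_dvd_pow hpr (by norm_num) h5
        exact imc_of_IM (by rw [hS]; norm_num) hIM
    · obtain rfl := eq_of_dvd_pow hpr (by norm_num) h5
      exact imc_of_IM (by rw [hS]; norm_num) hIM
  · obtain rfl := eq_of_dvd_pow hpr (by norm_num) h5
    exact imc_of_IM (by rw [hS]; norm_num) hIM

end Cfsg.Agent.H604.SC
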